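import Groth.Prelude.Def_ProEtW
import Groth.Agent.S7566
import Mathlib.Topology.Separation.Profinite
import Mathlib.Topology.Spectral.Basic

/-!
# Fibre products of spectral spaces with profinite spaces over the space of components
-/

universe u

open TopologicalSpace Topology

set_option linter.style.haveILetI false
set_option linter.unusedSectionVars false

namespace Groth.Agent.WLocalFib

variable {X T : Type u} [TopologicalSpace X] [TopologicalSpace T]

/-- Components of a spectral space are separated by clopen sets. -/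
theorem t2Space_connectedComponents [CompactSpace X] [PrespectralSpace X] [QuasiSeparatedSpace X] :
    T2Space (ConnectedComponents X) := by
  refine ⟨fun a b hab => ?_⟩
  obtain ⟨x, rfl⟩ := ConnectedComponents.surjective_coe a
  obtain ⟨y, rfl⟩ := ConnectedComponents.surjective_coe b
  have hy : y ∉ connectedComponent x := fun h => hab (ConnectedComponents.coe_eq_coe'.mpr h).symm
  rw [Groth.Agent.S7566.result x, Set.mem_sInter] at hy
  push Not at hy
  obtain ⟨C, ⟨hC, hxC⟩, hyC⟩ := hy
  have hpre : ConnectedComponents.mk ⁻¹' (ConnectedComponents.mk '' C) = C := by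
    rw [connectedComponents_preimage_image]
    exact hC.biUnion_connectedComponent_eq
  have hcl : IsClopen (ConnectedComponents.mk '' C) := by
    rw [← ConnectedComponents.isQuotientMap_coe.isClopen_preimage, hpre]; exact hC
  exact ⟨_, _, hcl.isOpen, hcl.compl.isOpen, Set.mem_image_of_mem _ hxC,
    fun h => hyC (hpre ▸ h : y ∈ C), disjoint_compl_right⟩

variable [SpectralSpace X] [CompactSpace T] [T2Space T] [TotallyDisconnectedSpace T]
  (g : C(T, ConnectedComponents X))

/-- The fibre product. -/
abbrev Fib : Type u := {p : X × T // ConnectedComponents.mk p.1 = g p.2}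

theorem isClosedEmbedding_fib : IsClosedEmbedding (Subtype.val : Fib g → X × T) :=
  haveI := t2Space_connectedComponents (X := X)
  (isClosed_eq (ConnectedComponents.continuous_coe.comp continuous_fst)
    (g.continuous.comp continuous_snd)).isClosedEmbedding_subtypeVal

theorem isTopologicalBasis_prod :
    IsTopologicalBasis (Set.image2 (· ×ˢ ·) {U : Set X | IsOpen U ∧ IsCompact U} {C : Set T | IsClopen C}) :=
  PrespectralSpace.isTopologicalBasis.prod isTopologicalBasis_isClopen

theorem spectralSpace_fib : SpectralSpace (Fib g) := by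
  have he := isClosedEmbedding_fib g
  have hbasis := isTopologicalBasis_prod (X := X) (T := T)
  haveI : CompactSpace (Fib g) := he.compactSpace
  haveI : PrespectralSpace (X × T) := .of_isTopologicalBasis hbasis (by
    rintro _ ⟨U, hU, C, hC, rfl⟩
    exact hU.2.prod hC.isClosed.isCompact)
  haveI : PrespectralSpace (Fib g) := .of_isClosedEmbedding _ he
  haveI : QuasiSeparatedSpace (Fib g) := by
    let b : {U : Set X // IsOpen U ∧ IsCompact U} × {C : Set T // IsClopen C} → Set (Fib g) :=
      fun q => Subtype.val ⁻¹' (q.1.1 ×ˢ q.2.1)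
    have hb : IsTopologicalBasis (Set.range b) := by
      convert hbasis.isInducing he.isInducing using 1
      ext s
      simp only [Set.mem_range, Set.mem_image, Set.mem_image2]
      constructor
      · rintro ⟨⟨⟨U, hU⟩, C, hC⟩, rfl⟩; exact ⟨_, ⟨U, hU, C, hC, rfl⟩, rfl⟩
      · rintro ⟨_, ⟨U, hU, C, hC, rfl⟩, rfl⟩; exact ⟨(⟨U, hU⟩, ⟨C, hC⟩), rfl⟩
    refine QuasiSeparatedSpace.of_isTopologicalBasis hb fun i j => ?_
    show IsCompact (Subtype.val ⁻¹' (i.1.1 ×ˢ i.2.1) ∩ Subtype.val ⁻¹' (j.1.1 ×ˢ j.2.1))
    rw [← Set.preimage_inter, Set.prod_inter_prod]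
    exact he.isCompact_preimage ((QuasiSeparatedSpace.inter_isCompact _ _ i.1.2.1 i.1.2.2 j.1.2.1 j.1.2.2).prod
      (i.2.2.isClosed.inter j.2.2.isClosed).isCompact)
  haveI : T0Space (Fib g) := inferInstance
  haveI : QuasiSober (Fib g) := by
    refine ⟨fun {Z} hZ hZc => ?_⟩
    have hproj : IsIrreducible ((fun y : Fib g => y.1.2) '' Z) :=
      hZ.image _ (continuous_snd.comp continuous_subtype_val).continuousOn
    obtain ⟨t, ht⟩ : ∃ t, ((fun y : Fib g => y.1.2) '' Z) = {t} :=
      isIrreducible_iff_singleton.mp hproj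
    have htZ : ∀ y ∈ Z, y.1.2 = t := fun y hy => by
      have : y.1.2 ∈ ((fun y : Fib g => y.1.2) '' Z) := Set.mem_image_of_mem _ hy
      rwa [ht] at this
    let W : Set X := (fun y : Fib g => y.1.1) '' Z
    have hW : IsIrreducible W := hZ.image _ (continuous_fst.comp continuous_subtype_val).continuousOn
    obtain ⟨ξ, hξ⟩ := QuasiSober.sober hW.closure isClosed_closure
    -- `W` is closed, being a slice
    have hWc : IsClosed W := by
      have : W = (fun x : X => (x, t)) ⁻¹' (Subtype.val '' Z) := by
        ext x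
        constructor
        · rintro ⟨y, hy, rfl⟩
          exact ⟨y, hy, Prod.ext rfl (htZ y hy)⟩
        · rintro ⟨y, hy, hxy⟩
          exact ⟨y, hy, congrArg Prod.fst hxy⟩
      rw [this]
      exact (he.isClosedMap Z hZc).preimage (by fun_prop)
    rw [hWc.closure_eq] at hξ
    obtain ⟨y, hy, hyξ⟩ := hξ.mem
    refine ⟨y, ?_⟩
    show closure {y} = Z
    refine (hZc.closure_subset_iff.mpr (Set.singleton_subset_iff.mpr hy)).antisymm fun z hz => ?_
    rw [← specializes_iff_mem_closure, subtype_specializes_iff, specializes_prod]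
    refine ⟨?_, by rw [htZ y hy, htZ z hz]⟩
    rw [show y.1.1 = ξ from hyξ]; exact hξ.specializes ⟨z, hz, rfl⟩
  exact {}

theorem exists_homeo_components :
    ∃ e : ConnectedComponents (Fib g) ≃ₜ T, ∀ y : Fib g, e (ConnectedComponents.mk y) = y.1.2 := by
  haveI : CompactSpace (Fib g) := (isClosedEmbedding_fib g).compactSpace
  let f : Fib g → T := fun y => y.1.2
  have hf : Continuous f := continuous_snd.comp continuous_subtype_val
  let F := hf.connectedComponentsLift
  have hF : ∀ y, F (ConnectedComponents.mk y) = f y := fun y => congrFun hf.connectedComponentsLift_comp_coe y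
  have hsurj : Function.Surjective F := fun t => by
    obtain ⟨x, hx⟩ := ConnectedComponents.surjective_coe (g t)
    exact ⟨ConnectedComponents.mk ⟨(x, t), hx⟩, hF _⟩
  have hinj : Function.Injective F := by
    intro a b hab
    obtain ⟨a, rfl⟩ := ConnectedComponents.surjective_coe a
    obtain ⟨b, rfl⟩ := ConnectedComponents.surjective_coe b
    rw [hF, hF] at hab
    obtain ⟨⟨x, t⟩, ha⟩ := a
    obtain ⟨⟨x', t'⟩, hb⟩ := b
    obtain rfl : t = t' := hab
    have hx : x ∈ connectedComponent x' := ConnectedComponents.coe_eq_coe'.mp (ha.trans hb.symm)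
    let emb : connectedComponent x' → Fib g := fun z =>
      ⟨(z.1, t), (ConnectedComponents.coe_eq_coe'.mpr z.2).trans hb⟩
    have hc : IsPreconnected (Set.range emb) := by
      haveI : PreconnectedSpace (connectedComponent x') :=
        isPreconnected_iff_preconnectedSpace.mp isPreconnected_connectedComponent
      exact isPreconnected_range (by fun_prop)
    refine ConnectedComponents.coe_eq_coe'.mpr (hc.subset_connectedComponent ?_ ?_)
    · exact ⟨⟨x', mem_connectedComponent⟩, rfl⟩
    · exact ⟨⟨x, hx⟩, rfl⟩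
  exact ⟨(hf.connectedComponentsLift_continuous).homeoOfEquivCompactToT2 (f := Equiv.ofBijective F ⟨hinj, hsurj⟩),
    hF⟩

theorem isClosed_singleton_iff (y : Fib g) : IsClosed ({y} : Set (Fib g)) ↔ IsClosed ({y.1.1} : Set X) := by
  rw [(isClosedEmbedding_fib g).isClosed_iff_image_isClosed, Set.image_singleton,
    show ({y.1} : Set (X × T)) = {y.1.1} ×ˢ {y.1.2} from (Set.singleton_prod_singleton).symm,
    ← closure_eq_iff_isClosed, ← closure_eq_iff_isClosed, closure_prod_eq, closure_singleton (x := y.1.2)]
  exact ⟨fun h => Set.ext fun x => by simpa [Prod.ext_iff] using Set.ext_iff.mp h (x, y.1.2), fun h => by rw [h]⟩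

theorem isWLocal_fib (hX : ProEtW.IsWLocal X) :
    ProEtW.IsWLocal (Fib g) ∧ ProEtW.IsWLocalMap (fun y : Fib g => y.1.1) ∧
      ProEtW.closedPoints (Fib g) = (fun y : Fib g => y.1.1) ⁻¹' ProEtW.closedPoints X := by
  haveI := t2Space_connectedComponents (X := X)
  obtain ⟨-, hc, hu⟩ := hX
  have hcp : {y : Fib g | IsClosed ({y} : Set (Fib g))} =
      (fun y : Fib g => y.1.1) ⁻¹' {x : X | IsClosed ({x} : Set X)} := by
    ext y; exact isClosed_singleton_iff g y
  refine ⟨⟨spectralSpace_fib g, ?_, fun y => ?_⟩, ⟨⟨by fun_prop, fun K hKo hKc => ?_⟩,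
    fun y hy => (isClosed_singleton_iff g y).mp hy⟩, hcp⟩
  · rw [hcp]; exact hc.preimage (by fun_prop)
  · obtain ⟨z, ⟨hz1, hz2⟩, hzu⟩ := hu y.1.1
    have hzc : ConnectedComponents.mk z = g y.1.2 := by
      rw [← y.2, eq_comm]
      exact (hz2.map ConnectedComponents.continuous_coe).eq
    refine ⟨⟨(z, y.1.2), hzc⟩, ⟨(isClosed_singleton_iff g _).mpr hz1, ?_⟩, fun w hw => ?_⟩
    · exact (subtype_specializes_iff _ _).mpr (specializes_prod.mpr ⟨hz2, specializes_rfl⟩)
    · have h := specializes_prod.mp ((subtype_specializes_iff _ _).mp hw.2)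
      exact Subtype.ext (Prod.ext (hzu w.1.1 ⟨(isClosed_singleton_iff g w).mp hw.1, h.1⟩) h.2.eq.symm)
  · exact (isClosedEmbedding_fib g).isCompact_preimage
      (show IsCompact (K ×ˢ (Set.univ : Set T)) from hKc.prod isCompact_univ) |> fun h => by
        convert h using 1; ext; simp

end Groth.Agent.WLocalFib
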